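import Cfsg.Agent.Lib.Helper92.HS.Data

/-! # The Higman-Sims group on 100 points: certificates (generated) -/

set_option autoImplicit false
set_option maxRecDepth 100000

namespace Cfsg.Agent.Lib.Helper92.HS

open Cfsg
open Cfsg.Agent.Lib.Helper27
open Cfsg.Agent.Lib.Helper92
open Cfsg.Agent.Lib.Helper92.PC

theorem e_id : PC.isId 100 eC = true := by decide +kernel
theorem a_ok : invOK 100 aC aiC = true := by decide +kernel
theorem z_ok : invOK 100 zC zC = true := by decide +kernel
theorem t_ok : invOK 100 tC tC = true := by decide +kernel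
theorem n0_ok : invOK 100 n0C n0iC = true := by decide +kernel
theorem q1_ok : invOK 100 q1C q1iC = true := by decide +kernel
theorem y0_ok : invOK 100 y0C y0C = true := by decide +kernel

def a : Equiv.Perm (Fin 100) := pm 100 aC aiC
def z : Equiv.Perm (Fin 100) := pm 100 zC zC
def t0 : Equiv.Perm (Fin 100) := pm 100 tC tC
def n0 : Equiv.Perm (Fin 100) := pm 100 n0C n0iC
def q1 : Equiv.Perm (Fin 100) := pm 100 q1C q1iC
def y0 : Equiv.Perm (Fin 100) := pm 100 y0C y0C

theorem ha : HasP a aC := hasP_pm a_ok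
theorem hai : HasP a⁻¹ aiC := hasP_pm_inv a_ok
theorem hz : HasP z zC := hasP_pm z_ok
theorem hzi : HasP z⁻¹ zC := hasP_pm_inv z_ok
theorem ht : HasP t0 tC := hasP_pm t_ok
theorem hn0 : HasP n0 n0C := hasP_pm n0_ok
theorem hq1 : HasP q1 q1C := hasP_pm q1_ok
theorem hy0 : HasP y0 y0C := hasP_pm y0_ok

theorem Spairs : pairsOK 100 (nth Sgc) (nth Sgi) 3 = true := by decide +kernel
theorem Sclosed : closedB 100 (nth Sgc) 3 (nth2 ST 64) (fun j => tb (nth Sci j)) 512 = true := by
  decide +kernel
theorem Stree : treeB (fun j => tb (nth Sci j)) (tb Spar) (tb Sgsel) (tb Srk) 511 3 512 = true := by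
  decide +kernel
theorem Sinc : incB (nth2 ST 64) 512 = true := by decide +kernel
theorem Sid : PC.isId 100 (nth2 ST 64 511) = true := by decide +kernel
theorem Sidc : mulP 100 (nth2 ST 64 511) (nth2 ST 64 511) = nth2 ST 64 511 := by
  decide +kernel
def Sg : ℕ → Equiv.Perm (Fin 100) := fun j => pm 100 (nth Sgc j) (nth Sgi j)
theorem Shg : ∀ j < 3, HasP (Sg j) (nth Sgc j) := hasP_of_pairsOK Spairs
theorem Slist : ListData 100 Sg 3 (nth2 ST 64) 512 :=
  listData Shg (by norm_num) Sid Sidc Sclosed Stree Sinc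


theorem S2pairs : pairsOK 100 (nth S2gc) (nth S2gi) 4 = true := by decide +kernel
theorem S2closed : closedB 100 (nth S2gc) 4 (nth2 S2T 64) (fun j => tb (nth S2ci j)) 1024 = true := by
  decide +kernel
theorem S2tree : treeB (fun j => tb (nth S2ci j)) (tb S2par) (tb S2gsel) (tb S2rk) 1023 4 1024 = true := by
  decide +kernel
theorem S2inc : incB (nth2 S2T 64) 1024 = true := by decide +kernel
theorem S2id : PC.isId 100 (nth2 S2T 64 1023) = true := by decide +kernel
theorem S2idc : mulP 100 (nth2 S2T 64 1023) (nth2 S2T 64 1023) = nth2 S2T 64 1023 := by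
  decide +kernel
def S2g : ℕ → Equiv.Perm (Fin 100) := fun j => pm 100 (nth S2gc j) (nth S2gi j)
theorem S2hg : ∀ j < 4, HasP (S2g j) (nth S2gc j) := hasP_of_pairsOK S2pairs
theorem S2list : ListData 100 S2g 4 (nth2 S2T 64) 1024 :=
  listData S2hg (by norm_num) S2id S2idc S2closed S2tree S2inc


theorem Fpairs : pairsOK 100 (nth Fgc) (nth Fgi) 2 = true := by decide +kernel
theorem Fclosed : closedB 100 (nth Fgc) 2 (nth2 FT 64) (fun j => tb (nth Fci j)) 125 = true := by
  decide +kernel
theorem Ftree : treeB (fun j => tb (nth Fci j)) (tb Fpar) (tb Fgsel) (tb Frk) 124 2 125 = true := by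
  decide +kernel
theorem Finc : incB (nth2 FT 64) 125 = true := by decide +kernel
theorem Fid : PC.isId 100 (nth2 FT 64 124) = true := by decide +kernel
theorem Fidc : mulP 100 (nth2 FT 64 124) (nth2 FT 64 124) = nth2 FT 64 124 := by
  decide +kernel
def Fg : ℕ → Equiv.Perm (Fin 100) := fun j => pm 100 (nth Fgc j) (nth Fgi j)
theorem Fhg : ∀ j < 2, HasP (Fg j) (nth Fgc j) := hasP_of_pairsOK Fpairs
theorem Flist : ListData 100 Fg 2 (nth2 FT 64) 125 :=
  listData Fhg (by norm_num) Fid Fidc Fclosed Ftree Finc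


theorem Thpairs : pairsOK 100 (nth Thgc) (nth Thgi) 2 = true := by decide +kernel
theorem Thclosed : closedB 100 (nth Thgc) 2 (nth2 ThT 64) (fun j => tb (nth Thci j)) 9 = true := by
  decide +kernel
theorem Thtree : treeB (fun j => tb (nth Thci j)) (tb Thpar) (tb Thgsel) (tb Thrk) 8 2 9 = true := by
  decide +kernel
theorem Thinc : incB (nth2 ThT 64) 9 = true := by decide +kernel
theorem Thid : PC.isId 100 (nth2 ThT 64 8) = true := by decide +kernel
theorem Thidc : mulP 100 (nth2 ThT 64 8) (nth2 ThT 64 8) = nth2 ThT 64 8 := by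
  decide +kernel
def Thg : ℕ → Equiv.Perm (Fin 100) := fun j => pm 100 (nth Thgc j) (nth Thgi j)
theorem Thhg : ∀ j < 2, HasP (Thg j) (nth Thgc j) := hasP_of_pairsOK Thpairs
theorem Thlist : ListData 100 Thg 2 (nth2 ThT 64) 9 :=
  listData Thhg (by norm_num) Thid Thidc Thclosed Thtree Thinc

/-! ### the straight line programs -/

def outs : List ℕ := [n0C, q1C, y0C] ++ Sgc ++ Fgc ++ Thgc

theorem main_slp : headsOK outs (slp 100 eC mainProg [zC, aC]) = true := by decide +kernel

theorem a_mem : a ∈ PG a z := AutSetup.a_mem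
theorem z_mem : z ∈ PG a z := AutSetup.z_mem

theorem out_mem : ∀ c ∈ outs, ∃ σ ∈ PG a z, HasP σ c :=
  slp_out (PG a z) e_id (by
    intro c hc
    simp only [List.mem_cons, List.not_mem_nil, or_false] at hc
    rcases hc with rfl | rfl
    · exact ⟨z, z_mem, hz⟩
    · exact ⟨a, a_mem, ha⟩) main_slp

theorem n0_mem : n0 ∈ PG a z := mem_of_code (out_mem _ (by simp [outs])) hn0
theorem q1_mem : q1 ∈ PG a z := mem_of_code (out_mem _ (by simp [outs])) hq1
theorem y0_mem : y0 ∈ PG a z := mem_of_code (out_mem _ (by simp [outs])) hy0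

theorem Sg_mem : ∀ j < 3, Sg j ∈ PG a z := fun j hj =>
  mem_of_code (out_mem _ (List.mem_append_left _ (List.mem_append_left _ (List.mem_append_right _
    (nth_mem (by exact hj)))))) (Shg j hj)
theorem Fg_mem : ∀ j < 2, Fg j ∈ PG a z := fun j hj =>
  mem_of_code (out_mem _ (List.mem_append_left _ (List.mem_append_right _
    (nth_mem (by exact hj))))) (Fhg j hj)
theorem Thg_mem : ∀ j < 2, Thg j ∈ PG a z := fun j hj =>
  mem_of_code (out_mem _ (List.mem_append_right _ (nth_mem (by exact hj)))) (Thhg j hj)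

theorem z_slp : headsOK [zC] (slp 100 eC zProg [p3C, p2C, aC]) = true := by decide +kernel

/-- `z` lies in every subgroup containing the three given generators. -/
theorem z_of_gens (H : Subgroup (Equiv.Perm (Fin 100))) (h1 : ∃ σ ∈ H, HasP σ aC)
    (h2 : ∃ σ ∈ H, HasP σ p2C) (h3 : ∃ σ ∈ H, HasP σ p3C) : z ∈ H :=
  mem_of_code (slp_out H e_id (by
    intro c hc
    simp only [List.mem_cons, List.not_mem_nil, or_false] at hc
    rcases hc with rfl | rfl | rfl
    · exact h3
    · exact h2
    · exact h1) z_slp zC List.mem_cons_self) hz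

/-! ### the order -/

theorem order_a : orderOf a = 11 :=
  orderOf_of_code (i := 0) (by norm_num) ha e_id (by decide +kernel) (by norm_num) (by decide +kernel)

theorem order_7 : orderOf (ev a z [true, true, false]) = 7 :=
  orderOf_of_code (i := 0) (by norm_num) (hasP_ev e_id ha hz _) e_id (by decide +kernel) (by norm_num)
    (by decide +kernel)

theorem dvd_card : 44352000 ∣ Nat.card (PG a z) := by
  have h1 : 512 ∣ Nat.card (PG a z) := card_genS_dvd Slist Sg_mem
  have h2 : 125 ∣ Nat.card (PG a z) := card_genS_dvd Flist Fg_mem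
  have h3 : 9 ∣ Nat.card (PG a z) := card_genS_dvd Thlist Thg_mem
  have h4 : 7 ∣ Nat.card (PG a z) := order_7 ▸ orderOf_dvd_card_of_mem (ev_mem a_mem z_mem _)
  have h5 : 11 ∣ Nat.card (PG a z) := order_a ▸ orderOf_dvd_card_of_mem a_mem
  have e1 : 512 * 125 ∣ Nat.card (PG a z) := Nat.Coprime.mul_dvd_of_dvd_of_dvd (by norm_num) h1 h2
  have e2 : 512 * 125 * 9 ∣ Nat.card (PG a z) := Nat.Coprime.mul_dvd_of_dvd_of_dvd (by norm_num) e1 h3
  have e3 : 512 * 125 * 9 * 7 ∣ Nat.card (PG a z) :=
    Nat.Coprime.mul_dvd_of_dvd_of_dvd (by norm_num) e2 h4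
  have e4 : 512 * 125 * 9 * 7 * 11 ∣ Nat.card (PG a z) :=
    Nat.Coprime.mul_dvd_of_dvd_of_dvd (by norm_num) e3 h5
  exact e4

/-! ### the class of `z` -/

theorem cls_conj : conjB 100 (nth [aC, zC]) (nth [aiC, zC]) 2 (nth2 clsT 64) (fun j => tb (nth clsCi j))
    5775 0 5775 = true := by decide +kernel

theorem cls_z : nth2 clsT 64 4282 = zC := by decide +kernel

theorem cls_mem {x : Equiv.Perm (Fin 100)} (hx : x ∈ PG a z) :
    ∃ k < 5775, HasP (x * z * x⁻¹) (nth2 clsT 64 k) :=
  conj_closed (g := two a z) (gc := nth [aC, zC]) (gic := nth [aiC, zC]) (r := 2)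
    (forall_two ha hz) (forall_two hai hzi)
    (fun k hk => conjB_spec cls_conj (Nat.zero_le k) (by omega)) (by rw [genS_two]; exact hx)
    ⟨4282, by norm_num, cls_z ▸ hz⟩

theorem rels_ok : relB 100 aC zC rels = true := by decide +kernel

theorem t_sq : t0 * t0 = 1 := (ht.mul ht).eq_one (by decide +kernel)

theorem mainA : mainB 100 aC zC aC rels (uL 100 eC aC tC 11) (nth2 clsT 64) (tb cjA) (tb cpA) 0 5775 = true := by
  decide +kernel

theorem mainA' : mainB 100 aC zC aiC rels (uL 100 eC aC tC 11) (nth2 clsT 64) (tb cjB) (tb cpB) 0 5775 = true := by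
  decide +kernel

/-! ### the setup -/

theorem S_z : nth2 ST 64 477 = zC := by decide +kernel

theorem t_a : t0 * a * t0⁻¹ = a⁻¹ := by
  rw [ht.mul_eq ha hai ht (by decide +kernel)]; group

theorem t_z : t0 * z * t0⁻¹ = y0 := by
  rw [ht.mul_eq hz hy0 ht (by decide +kernel)]; group

theorem S2_last : nth S2gc 3 = mulP 100 q1C tC := by decide +kernel
theorem S2_first : ∀ j < 3, nth S2gc j = nth Sgc j := by decide +kernel

theorem setup (hcard : Nat.card (PG a z) = 44352000) : AutSetup a z t0 11 9 (genS Sg 3) where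
  fin := inferInstance
  pp := by norm_num
  oa := order_a
  hp2 := by rw [hcard]; norm_num
  hSP := genS_le Sg_mem
  cS := by rw [Slist.card]; norm_num
  hk := by rw [hcard]; norm_num
  zS := mem_of_code (Slist.sup 477 (by norm_num)) (S_z ▸ hz)
  z1 := ne_one_of_code (i := 0) hz (by norm_num) (by decide +kernel)
  zc := comm_of_commB hz Shg (by decide +kernel)
  zu := centre_of_centB Shg Slist Sid (S_z ▸ hz) (by decide +kernel)
  H1 := H1_of_normB e_id ha hai hn0 n0_mem (q := 5) (by decide +kernel)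
  ta := by rw [t_a]; exact (PG a z).inv_mem a_mem
  tz := by rw [t_z]; exact y0_mem
  tt := t_sq
  tout := by
    intro hc
    have h1 : ∀ j < 4, S2g j ∈ PG a z := by
      intro j hj
      rcases Nat.lt_succ_iff_lt_or_eq.1 hj with h | h
      · have := S2hg j hj
        rw [S2_first j h] at this
        rw [this.ext (Shg j h)]
        exact Sg_mem j h
      · have := S2hg j hj
        rw [h, S2_last] at this
        rw [h, this.ext (hq1.mul ht)]
        exact (PG a z).mul_mem q1_mem hc
    have h2 := card_genS_dvd S2list h1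
    rw [hcard] at h2
    revert h2
    norm_num
  cent := cent_of_centrB (wh := [true]) (W := nthB Wl) (f := 39) e_id ha hz (by decide +kernel)
  H2 := by
    rintro r y hr ⟨x, hx, rfl⟩ hw
    obtain ⟨k, hk, hy⟩ := cls_mem hx
    rcases hr with rfl | rfl
    · exact mainB_spec ha hz ha rels_ok (uL_spec e_id ha ht t_sq a_mem 11) mainA (Nat.zero_le k)
        (by omega) hy hw
    · exact mainB_spec ha hz hai rels_ok (uL_spec e_id ha ht t_sq a_mem 11) mainA' (Nat.zero_le k)
        (by omega) hy hw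

theorem card_out (hcard : Nat.card (PG a z) = 44352000) : Nat.card (Cfsg.Out (PG a z)) = 2 :=
  (setup hcard).card_out

end Cfsg.Agent.Lib.Helper92.HS
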