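import Cfsg.Agent.Lib.Helper54.HSMain2
import Cfsg.Agent.Lib.Helper92.PC.Leech
import Cfsg.Agent.Lib.Helper92.HS.Perm
import Cfsg.Prelude.Def_Spor_Conway

/-!
# The Higman-Sims group in the Leech lattice and its action on 100 vectors
-/

set_option autoImplicit false
set_option maxRecDepth 100000

namespace Cfsg.Agent.Lib.Helper92.HS

open Cfsg
open Cfsg.Agent.Lib.Helper27
open Cfsg.Agent.Lib.Helper54
open Cfsg.Agent.Lib.Helper92.PC

theorem tabD : TabData [tt0, u3] [Xt0, Xu3] 32 [0, 24] hs100Tab 100 where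
  hbs := rfl
  htab := hs100Tab_ok
  hcard := hsP0_count
  hN0 := by norm_num
  hn := by norm_num

theorem trans48 : TransL [] 48 [] := by
  intro x y hx hy
  obtain ⟨g, hg⟩ := co0_trans_48 x y (clsL_nil.1 hx) (clsL_nil.1 hy)
  exact ⟨g, fun b hb => absurd hb (by simp), hg⟩

theorem count48 : CountL [] 48 [] 16773120 := by
  unfold CountL
  rw [← ncard_norm48]
  congr 1
  ext x
  exact clsL_nil

theorem card_fix : Nat.card (FixL [tt0, u3]) = 44352000 := by
  have h0 := card_FixL_nil
  have h1 := card_FixL_cons (b0 := u3) trans48 count48 (clsL_nil.2 u3_norm)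
  have h2 := card_FixL_cons (b0 := tt0) transY countY tt0_cls
  rw [card_Co0] at h0
  rw [h0, h2] at h1
  omega

/-- the `i`-th generator. -/
def gn (i : ℕ) : ℕ × List ℕ := hsGens.getD i (0, [])

theorem gn_mem {i : ℕ} (hi : i < hsGens.length) : gn i ∈ hsGens := by
  unfold gn
  rw [List.getD_eq_getElem _ _ hi]
  exact List.getElem_mem _

theorem gn_ok {i : ℕ} (hi : i < hsGens.length) :
    certOK (gn i).2 = true ∧ colsOK (gn i).1 (gn i).2 = true := by
  have h := hsGens_ok
  unfold gensOK at h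
  rw [allList_iff] at h
  have := h _ (gn_mem hi)
  rwa [band_eq, Bool.and_eq_true] at this

theorem gn_fix {i : ℕ} (hi : i < hsGens.length) : genCo0 (gn i).2 (gn_ok hi).1 ∈ FixL [tt0, u3] :=
  mem_StabC_iff (bs := [tt0, u3]) (Xs := [Xt0, Xu3]) rfl
    (genCo0_mem_StabC base_t0_u3 hsGens_ok hsGens_fix _ (gn_mem hi) _)

theorem act0 : TabData.actOK (gn 0).1 (gn 0).2 hs100Tab 100 aC = true := by decide +kernel
theorem act1 : TabData.actOK (gn 1).1 (gn 1).2 hs100Tab 100 p2C = true := by decide +kernel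
theorem act2 : TabData.actOK (gn 2).1 (gn 2).2 hs100Tab 100 p3C = true := by decide +kernel

theorem len : hsGens.length = 3 := by decide +kernel

theorem range_code {i code : ℕ} (hi : i < hsGens.length)
    (h : TabData.actOK (gn i).1 (gn i).2 hs100Tab 100 code = true) :
    ∃ σ ∈ tabD.phi.range, HasP σ code :=
  ⟨_, ⟨⟨genCo0 (gn i).2 (gn_ok hi).1, gn_fix hi⟩, rfl⟩, tabD.hasP_gen (gn_ok hi).1 (gn_ok hi).2 _ h⟩

theorem PG_le : PG a z ≤ tabD.phi.range := by
  have h0 := range_code (i := 0) (by rw [len]; norm_num) act0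
  have h1 := range_code (i := 1) (by rw [len]; norm_num) act1
  have h2 := range_code (i := 2) (by rw [len]; norm_num) act2
  unfold PG
  rw [Subgroup.closure_le]
  rintro x (rfl | hx)
  · exact mem_of_code h0 ha
  · rw [Set.mem_singleton_iff.1 hx]
    exact z_of_gens _ h0 h1 h2

theorem iso_fix : Nonempty (FixL [tt0, u3] ≃* PG a z) ∧ Nat.card (PG a z) = 44352000 := by
  have : Finite (FixL [tt0, u3]) := Nat.finite_of_card_ne_zero (by rw [card_fix]; norm_num)
  have := iso_of_dvd tabD.phi (PG a z) PG_le (by rw [card_fix]; exact dvd_card)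
  rwa [card_fix] at this

/-! ### the group of the statement -/

theorem normV : sqNorm (Spor.leechV : GolayPt → ℤ) = 48 := by
  show sqNorm Spor.vecV = 48
  decide +kernel

theorem normW : sqNorm ((-Spor.leechV - Spor.leechU' : ↥leechLattice) : GolayPt → ℤ) = 48 := by
  show sqNorm (-Spor.vecV - Spor.vecU') = 48
  decide +kernel

theorem dotVW : dotInt (Spor.leechV : GolayPt → ℤ)
    ((-Spor.leechV - Spor.leechU' : ↥leechLattice) : GolayPt → ℤ) = -32 := by
  show dotInt Spor.vecV (-Spor.vecV - Spor.vecU') = -32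
  decide +kernel

theorem conj_std : ConjL [tt0, u3] [Spor.leechU', Spor.leechV] := by
  have := conj_hs Spor.leechV (-Spor.leechV - Spor.leechU') normV normW dotVW
  have e : -Spor.leechV - (-Spor.leechV - Spor.leechU') = Spor.leechU' := by abel
  rwa [e] at this

/-- `HS` as a pointwise stabiliser. -/
def hsEquiv : ↥Spor.HS ≃* FixL [Spor.leechU', Spor.leechV] where
  toFun g := ⟨⟨g.1, g.2.1.1⟩, by
    intro b hb
    simp only [List.mem_cons, List.not_mem_nil, or_false] at hb
    rcases hb with rfl | rfl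
    · exact g.2.2
    · exact g.2.1.2⟩
  invFun g := ⟨g.1.1, ⟨⟨g.1.2, g.2 _ (by simp)⟩, g.2 _ (by simp)⟩⟩
  left_inv _ := rfl
  right_inv _ := rfl
  map_mul' _ _ := rfl

theorem card_out_HS : Nat.card (Cfsg.Out ↥Spor.HS) = 2 := by
  obtain ⟨⟨e1⟩, hc⟩ := iso_fix
  obtain ⟨e2⟩ := nonempty_FixL_congr conj_std
  rw [card_out_congr ((hsEquiv.trans e2.symm).trans e1)]
  exact card_out hc

end Cfsg.Agent.Lib.Helper92.HS
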